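import Mathlib.CategoryTheory.Adjunction.Basic

/-!
# Formal compatibilities of the base change maps built from adjunctions

A square of functors `G' ⋙ P ≅ P' ⋙ G` with left adjoints `L ⊣ G`, `L' ⊣ G'` and right adjoints
`P ⊣ a`, `P' ⊣ a'`.
-/

set_option autoImplicit false

open CategoryTheory

namespace Groth.Agent.Lib.Mate41.Basic

universe v₁ v₂ v₃ v₄ u₁ u₂ u₃ u₄

variable {A : Type u₁} [Category.{v₁} A] {B : Type u₂} [Category.{v₂} B]
  {A' : Type u₃} [Category.{v₃} A'] {B' : Type u₄} [Category.{v₄} B']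
  {P : A ⥤ B} {P' : A' ⥤ B'} {G : B' ⥤ B} {G' : A' ⥤ A} {L : B ⥤ B'} {L' : A ⥤ A'}
  {a : B ⥤ A} {a' : B' ⥤ A'}
  (adj : P ⊣ a) (adj' : P' ⊣ a') (adjg : L ⊣ G) (adjg' : L' ⊣ G')
  (e : G' ⋙ P ≅ P' ⋙ G)

/-- the map `G' a' M ⟶ a G M` -/
def xi (M : B') : G'.obj (a'.obj M) ⟶ a.obj (G.obj M) :=
  adj.homEquiv _ _ (e.hom.app (a'.obj M) ≫ G.map (adj'.counit.app M))

/-- the map `L P K ⟶ P' L' K` -/
def push (K : A) : L.obj (P.obj K) ⟶ P'.obj (L'.obj K) :=
  (adjg.homEquiv _ _).symm (P.map (adjg'.unit.app K) ≫ e.hom.app (L'.obj K))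

theorem xi_naturality {M N : B'} (φ : M ⟶ N) :
    G'.map (a'.map φ) ≫ xi adj adj' e N = xi adj adj' e M ≫ a.map (G.map φ) := by
  unfold xi
  rw [← adj.homEquiv_naturality_right, ← adj.homEquiv_naturality_left]
  congr 1
  have h := e.hom.naturality (a'.map φ)
  dsimp at h
  rw [reassoc_of% h, Category.assoc, ← G.map_comp, ← G.map_comp]
  congr 2
  exact adj'.counit.naturality φ

/-- the map `L' a K ⟶ a' L K` -/
noncomputable def bc (K : B) (h : IsIso (xi adj adj' e (L.obj K))) :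
    L'.obj (a.obj K) ⟶ a'.obj (L.obj K) :=
  haveI := h
  L'.map (a.map (adjg.unit.app K)) ≫ L'.map (inv (xi adj adj' e (L.obj K))) ≫
    adjg'.counit.app (a'.obj (L.obj K))

theorem counit_compat (hξ : ∀ M, IsIso (xi adj adj' e M)) (K : B) :
    push adjg adjg' e (a.obj K) ≫ P'.map (bc adj adj' adjg adjg' e K (hξ _)) ≫
      adj'.counit.app (L.obj K) = L.map (adj.counit.app K) := by
  haveI := hξ (L.obj K)
  apply (adjg.homEquiv _ _).injective
  rw [adjg.homEquiv_naturality_right]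
  unfold push
  rw [Equiv.apply_symm_apply, adjg.homEquiv_unit]
  erw [← adjg.unit.naturality (adj.counit.app K)]
  have hb : adjg'.unit.app (a.obj K) ≫ G'.map (bc adj adj' adjg adjg' e K (hξ _)) =
      a.map (adjg.unit.app K) ≫ inv (xi adj adj' e (L.obj K)) := by
    refine (adjg'.homEquiv_unit ..).symm.trans ?_
    unfold bc
    rw [← Category.assoc, ← L'.map_comp, ← adjg'.homEquiv_counit]
    exact Equiv.apply_symm_apply _ _
  have hx : P.map (xi adj adj' e (L.obj K)) ≫ adj.counit.app _ =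
      e.hom.app (a'.obj (L.obj K)) ≫ G.map (adj'.counit.app (L.obj K)) := by
    refine (adj.homEquiv_counit ..).symm.trans ?_
    exact Equiv.symm_apply_apply _ _
  have h := e.hom.naturality (bc adj adj' adjg adjg' e K (hξ _))
  dsimp at h ⊢
  rw [Category.assoc, G.map_comp, ← reassoc_of% h, ← hx, ← P.map_comp_assoc, hb,
    ← P.map_comp_assoc, Category.assoc, IsIso.inv_hom_id, Category.comp_id]
  exact adj.counit.naturality (adjg.unit.app K)

theorem unit_compat (hξ : ∀ M, IsIso (xi adj adj' e M)) (M : A) :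
    adj'.unit.app (L'.obj M) = L'.map (adj.unit.app M) ≫
      bc adj adj' adjg adjg' e (P.obj M) (hξ _) ≫ a'.map (push adjg adjg' e M) := by
  haveI := hξ (L.obj (P.obj M))
  haveI := hξ (P'.obj (L'.obj M))
  apply (adjg'.homEquiv _ _).injective
  rw [adjg'.homEquiv_naturality_left, adjg'.homEquiv_naturality_right]
  have hb : (adjg'.homEquiv _ _) (bc adj adj' adjg adjg' e (P.obj M) (hξ _)) =
      a.map (adjg.unit.app (P.obj M)) ≫ inv (xi adj adj' e (L.obj (P.obj M))) := by
    unfold bc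
    rw [← Category.assoc, ← L'.map_comp, ← adjg'.homEquiv_counit]
    exact Equiv.apply_symm_apply _ _
  dsimp only [Functor.id_obj, Functor.comp_obj] at hb ⊢
  rw [hb, adjg'.homEquiv_unit]
  have hn : inv (xi adj adj' e (L.obj (P.obj M))) ≫ G'.map (a'.map (push adjg adjg' e M)) =
      a.map (G.map (push adjg adjg' e M)) ≫ inv (xi adj adj' e (P'.obj (L'.obj M))) := by
    rw [IsIso.inv_comp_eq, ← Category.assoc, IsIso.eq_comp_inv]
    exact xi_naturality adj adj' e _
  rw [Category.assoc, hn, ← a.map_comp_assoc, ← adjg.homEquiv_unit]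
  unfold push
  rw [Equiv.apply_symm_apply, a.map_comp]
  have hu := adj.unit.naturality (adjg'.unit.app M)
  dsimp at hu ⊢
  rw [Category.assoc, reassoc_of% hu.symm]
  congr 1
  rw [← Category.assoc, IsIso.eq_comp_inv]
  unfold xi
  rw [← adj.homEquiv_naturality_left, ← adj.homEquiv_unit]
  congr 1
  have he := e.hom.naturality (adj'.unit.app (L'.obj M))
  dsimp at he
  rw [reassoc_of% he, ← G.map_comp, adj'.left_triangle_components, G.map_id, Category.comp_id]

end Groth.Agent.Lib.Mate41.Basic
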